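import Mathlib
import Cfsg.Prelude.Def_Local
import Cfsg.Agent.Lib.Helper76.PSolvable
import Cfsg.Agent.Lib.Helper76.SolvPSolv
import Cfsg.Agent.Lib.Helper55.Cores
import Cfsg.Agent.Lib.Helper54.PConstrained
import Cfsg.Agent.Lib.Helper71.SylowNumber

/-!
# Solvable-group lemmas for the Bender–Glauberman uniqueness criterion (helper15)

* `inv_le_pPrimeCore`: a `p'`-subgroup normalized by a Sylow `p`-subgroup of a solvable group lies
  in `O_{p'}`.
* `frattini_pPrimePCore`: `X = O_{p'}(X) N_X(S ∩ O_{p',p}(X))`.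
-/

set_option autoImplicit false

namespace Cfsg.Agent.Helper15.BGU

open Cfsg Subgroup

variable {X : Type*} [Group X] [Finite X]

/-- A `p'`-subgroup normalized by a Sylow `p`-subgroup of a `p`-solvable group lies in `O_{p'}`. -/
theorem inv_le_pPrimeCore (p : ℕ) [Fact p.Prime] (hsolv : IsPSolvable p X) (P : Sylow p X)
    (Y : Subgroup X) (hY : (Nat.card Y).Coprime p)
    (hPY : (P : Subgroup X) ≤ normalizer (Y : Set X)) : Y ≤ pPrimeCore p X := by
  set K := pPrimeCore p X with hK
  set π := QuotientGroup.mk' K with hπ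
  have hπs : Function.Surjective π := QuotientGroup.mk'_surjective K
  have hsolv' : IsPSolvable p (X ⧸ K) := Helper76.IsPSolvable.quotient hsolv K
  have hcore' : pPrimeCore p (X ⧸ K) = ⊥ := Helper55.pPrimeCore_quotient_eq_bot p
  have HH := Helper76.centralizer_pCore_le hsolv' hcore'
  set Hb := pCore p (X ⧸ K) with hHb
  have hHbn : Hb.Normal := inferInstance
  have hHbp : IsPGroup p Hb := Helper55.isPGroup_pCore
  set Pb : Sylow p (X ⧸ K) := P.mapSurjective hπs with hPb
  set Yb : Subgroup (X ⧸ K) := Y.map π with hYb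
  have hYbc : (Nat.card Yb).Coprime p := by
    have h1 : Nat.card Yb ∣ Nat.card Y := Subgroup.card_map_dvd Y π
    exact Nat.Coprime.coprime_dvd_left h1 hY
  have hHbP : Hb ≤ (Pb : Subgroup (X ⧸ K)) := Helper55.pCore_le_sylow Pb
  have hPbN : (Pb : Subgroup (X ⧸ K)) ≤ normalizer (Yb : Set (X ⧸ K)) := by
    rw [hPb, Sylow.coe_mapSurjective]
    calc (P : Subgroup X).map π ≤ (normalizer (Y : Set X)).map π := Subgroup.map_mono hPY
      _ ≤ normalizer (Yb : Set (X ⧸ K)) := Subgroup.le_normalizer_map π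
  have hdisj : Hb ⊓ Yb = ⊥ := by
    rw [eq_bot_iff]
    intro x hx
    rw [Subgroup.mem_inf] at hx
    rw [Subgroup.mem_bot]
    obtain ⟨k, hk⟩ := hHbp ⟨x, hx.1⟩
    have hk' : x ^ p ^ k = 1 := by simpa using congrArg Subtype.val hk
    have h2 : x ^ Nat.card Yb = 1 := by
      have h3 : (⟨x, hx.2⟩ : Yb) ^ Nat.card Yb = 1 := pow_card_eq_one'
      have h4 := congrArg Subtype.val h3
      rwa [Subgroup.coe_pow, Subgroup.coe_one] at h4
    have hcop : (p ^ k).Coprime (Nat.card Yb) := (Nat.Coprime.pow_right k hYbc).symm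
    have h5 : x ^ Nat.gcd (p ^ k) (Nat.card Yb) = 1 := pow_gcd_eq_one.mpr ⟨hk', h2⟩
    rwa [Nat.Coprime.gcd_eq_one hcop, pow_one] at h5
  have hYbC : Yb ≤ centralizer (Hb : Set (X ⧸ K)) := by
    intro x hx
    rw [Subgroup.mem_centralizer_iff]
    intro h hh
    have hh' : h ∈ Hb := hh
    have hN := hPbN (hHbP hh')
    rw [Subgroup.mem_normalizer_iff] at hN
    have h1 : h * x * h⁻¹ * x⁻¹ ∈ Yb := Yb.mul_mem ((hN x).mp hx) (Yb.inv_mem hx)
    have h2 : h * x * h⁻¹ * x⁻¹ ∈ Hb := by
      have : h * x * h⁻¹ * x⁻¹ = h * (x * h⁻¹ * x⁻¹) := by group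
      rw [this]
      exact Hb.mul_mem hh' (hHbn.conj_mem _ (Hb.inv_mem hh') x)
    have h3 : h * x * h⁻¹ * x⁻¹ ∈ Hb ⊓ Yb := Subgroup.mem_inf.mpr ⟨h2, h1⟩
    rw [hdisj, Subgroup.mem_bot] at h3
    have h4 : h * x * h⁻¹ = x := by
      rw [mul_inv_eq_one] at h3; exact h3
    rw [mul_inv_eq_iff_eq_mul] at h4
    exact h4
  have hYbbot : Yb = ⊥ := by
    rw [eq_bot_iff, ← hdisj]
    exact le_inf (hYbC.trans HH) le_rfl
  rw [hYb, Subgroup.map_eq_bot_iff, hπ, QuotientGroup.ker_mk'] at hYbbot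
  exact hYbbot

theorem pPrimePCore_normal_h15 (p : ℕ) : (pPrimePCore p X).Normal := by
  unfold pPrimePCore
  exact Subgroup.Normal.comap inferInstance _

/-- Frattini argument for `O_{p',p}`: `X = O_{p'}(X) N_X(P ∩ O_{p',p}(X))`. -/
theorem frattini_pPrimePCore (p : ℕ) [Fact p.Prime] (P : Sylow p X) :
    pPrimeCore p X ⊔ normalizer (((P : Subgroup X) ⊓ pPrimePCore p X : Subgroup X) : Set X) = ⊤ := by
  set N := pPrimePCore p X with hN
  haveI hNn : N.Normal := pPrimePCore_normal_h15 p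
  set T := (P : Subgroup X) ⊓ N with hT
  have hcard : Nat.card T = Helper52.sylCard p N := Helper71.card_sylow_inf_normal p P N
  obtain ⟨Q, hQ⟩ := Helper52.exists_sylow_of_card p N T inf_le_right hcard
  have hfr := Sylow.normalizer_sup_eq_top Q
  rw [hQ] at hfr
  have himg := Helper54.map_sylow_pPrimePCore Q
  rw [hQ] at himg
  have hNle : N ≤ pPrimeCore p X ⊔ T := by
    intro n hn
    have h1 : (QuotientGroup.mk' (pPrimeCore p X)) n ∈ pCore p (X ⧸ pPrimeCore p X) :=
      Helper54.mem_pPrimePCore_iff.mp hn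
    rw [← himg] at h1
    obtain ⟨t, ht, hte⟩ := Subgroup.mem_map.mp h1
    have h2 : t⁻¹ * n ∈ pPrimeCore p X := by
      rw [← QuotientGroup.ker_mk' (pPrimeCore p X), MonoidHom.mem_ker, map_mul, map_inv, hte,
        inv_mul_cancel]
    have h3 : n = t * (t⁻¹ * n) := by group
    rw [h3]
    exact Subgroup.mul_mem _ (Subgroup.mem_sup_right ht) (Subgroup.mem_sup_left h2)
  rw [eq_top_iff, ← hfr]
  apply sup_le
  · exact le_sup_right
  · apply hNle.trans
    apply sup_le le_sup_left
    exact (Subgroup.le_normalizer).trans le_sup_right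

/-- If the index of `O_{p',p}(X)` is prime to `p`, every Sylow `p`-subgroup lies in it. -/
theorem sylow_le_pPrimePCore_of_coprime (p : ℕ) [hp : Fact p.Prime] (P : Sylow p X)
    (h : ((pPrimePCore p X).index).Coprime p) : (P : Subgroup X) ≤ pPrimePCore p X := by
  set N := pPrimePCore p X with hN
  haveI hNn : N.Normal := pPrimePCore_normal_h15 p
  have hcard : Nat.card ((P : Subgroup X) ⊓ N : Subgroup X) = Helper52.sylCard p N :=
    Helper71.card_sylow_inf_normal p P N
  have hidx : ¬ p ∣ N.index := by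
    intro hd
    have := Nat.Coprime.eq_one_of_dvd h.symm hd
    exact hp.out.one_lt.ne' this
  have hfac : (Nat.card N).factorization p = (Nat.card X).factorization p := by
    have e3 := Subgroup.card_mul_index N
    have hNi : N.index ≠ 0 := by
      intro h0
      rw [h0, mul_zero] at e3
      exact absurd e3.symm Nat.card_pos.ne'
    rw [← e3, Nat.factorization_mul Nat.card_pos.ne' hNi]
    simp [Nat.factorization_eq_zero_of_not_dvd hidx]
  have hP : Nat.card (P : Subgroup X) = p ^ (Nat.card X).factorization p := P.card_eq_multiplicity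
  have heq : Nat.card ((P : Subgroup X) ⊓ N : Subgroup X) = Nat.card (P : Subgroup X) := by
    rw [hcard, hP, Helper52.sylCard, hfac]
  have h2 : (P : Subgroup X) ⊓ N = (P : Subgroup X) :=
    Subgroup.eq_of_le_of_card_ge inf_le_left heq.ge
  rw [← h2]
  exact inf_le_right

end Cfsg.Agent.Helper15.BGU
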