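import Mathlib
import Cfsg.Agent.Lib.Helper15.BGU.Solv
import Cfsg.Agent.Lib.Helper54.PuigIn
import Cfsg.Agent.Lib.Helper54.BGOvergroup
import Cfsg.Agent.S1469
import Cfsg.Agent.S1457
import Cfsg.Agent.S1450

/-!
# Transport of the solvable-group inputs to subgroups of an ambient group (helper15)

For `H ≤ G` solvable of odd order and `R ≤ H` of Sylow order (`Nat.card R = sylCard p H`):
`coreIn p H = O_{p'}(H)` and `ppIn p H = O_{p',p}(H)` as subgroups of `G`, the Puig factorization,
the Frattini factorization, `S1457` and `S1450` in this language.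
-/

set_option autoImplicit false
set_option linter.unusedSectionVars false

namespace Cfsg.Agent.Helper15.BGU

open Cfsg Subgroup Cfsg.Agent.Helper52 Cfsg.Agent.Helper54.Puig

variable {G : Type*} [Group G] [Finite G]

/-- `O_{p'}(H)` inside `G`. -/
def coreIn (p : ℕ) (H : Subgroup G) : Subgroup G := (pPrimeCore p ↥H).map H.subtype

/-- `O_{p',p}(H)` inside `G`. -/
def ppIn (p : ℕ) (H : Subgroup G) : Subgroup G := (pPrimePCore p ↥H).map H.subtype

theorem coreIn_le (p : ℕ) (H : Subgroup G) : coreIn p H ≤ H := Subgroup.map_subtype_le _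

theorem ppIn_le (p : ℕ) (H : Subgroup G) : ppIn p H ≤ H := Subgroup.map_subtype_le _

theorem coreIn_coprime (p : ℕ) (H : Subgroup G) : (Nat.card (coreIn p H)).Coprime p := by
  unfold coreIn
  rw [Subgroup.card_map_of_injective H.subtype_injective]
  exact Helper55.pPrimeCore_coprime p

theorem le_normalizer_coreIn (p : ℕ) (H : Subgroup G) :
    H ≤ normalizer (coreIn p H : Set G) := by
  have h1 : H ≤ normalizer (H : Set G) := Subgroup.le_normalizer
  exact h1.trans (Helper54.normalizer_le_normalizer_map_of_characteristic H (pPrimeCore p ↥H))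

theorem coreIn_eq_bot_iff (p : ℕ) (H : Subgroup G) : coreIn p H = ⊥ ↔ pPrimeCore p ↥H = ⊥ := by
  unfold coreIn
  rw [Subgroup.map_eq_bot_iff_of_injective _ H.subtype_injective]

theorem normalizes_subgroupOf {H R Y : Subgroup G} (S : Subgroup ↥H)
    (hS : S.map H.subtype = R) (hRY : R ≤ normalizer (Y : Set G)) :
    S ≤ normalizer ((Y.subgroupOf H : Subgroup ↥H) : Set ↥H) := by
  intro s hs
  have hsR : (s : G) ∈ R := by
    rw [← hS]; exact Subgroup.mem_map_of_mem H.subtype hs
  have hn := hRY hsR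
  rw [Subgroup.mem_normalizer_iff] at hn ⊢
  intro h
  rw [Subgroup.mem_subgroupOf, Subgroup.mem_subgroupOf]
  have := hn (h : G)
  simpa using this

/-- `R`-invariant `p'`-subgroups of a solvable `H` (with `R` Sylow in `H`) lie in `O_{p'}(H)`. -/
theorem inv_le_coreIn (p : ℕ) [Fact p.Prime] {H R Y : Subgroup G} (hsolv : Group.IsSolvable ↥H)
    (hRH : R ≤ H) (hR : Nat.card R = sylCard p H) (hYH : Y ≤ H) (hY : (Nat.card Y).Coprime p)
    (hRY : R ≤ normalizer (Y : Set G)) : Y ≤ coreIn p H := by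
  obtain ⟨S, hS⟩ := exists_sylow_of_card p H R hRH hR
  have hps : IsPSolvable p ↥H := Helper76.isPSolvable_of_isSolvable' p
  have hY' : (Nat.card (Y.subgroupOf H)).Coprime p := by
    rw [Nat.card_congr (Subgroup.subgroupOfEquivOfLe hYH).toEquiv]; exact hY
  have h1 := inv_le_pPrimeCore p hps S (Y.subgroupOf H) hY'
    (normalizes_subgroupOf (S : Subgroup ↥H) hS hRY)
  have h2 : (Y.subgroupOf H).map H.subtype ≤ coreIn p H := Subgroup.map_mono h1
  rwa [Subgroup.map_subgroupOf_eq_of_le hYH] at h2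

theorem map_subtype_zIn {H : Subgroup G} (S : Subgroup ↥H) :
    (zIn S).map H.subtype = zIn (S.map H.subtype) := by
  apply map_zIn
  rw [(MonoidHom.ker_eq_bot_iff _).mpr H.subtype_injective, inf_bot_eq]

/-- Puig factorization: `H = O_{p'}(H) N_H(Z(L(R)))`. -/
theorem puig_le (p : ℕ) [Fact p.Prime] (hp : p ≠ 2) {H R : Subgroup G}
    (hsolv : Group.IsSolvable ↥H) (hodd : Odd (Nat.card H))
    (hRH : R ≤ H) (hR : Nat.card R = sylCard p H) (L : Subgroup G)
    (h1 : coreIn p H ≤ L) (h2 : normalizer (zIn R : Set G) ⊓ H ≤ L) : H ≤ L := by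
  obtain ⟨S, hS⟩ := exists_sylow_of_card p H R hRH hR
  have key := (Cfsg.Agent.S1469.result (G := ↥H) hodd p hp S).1
  rw [center_puigSubgroup_map] at key
  have hZ : (zIn (S : Subgroup ↥H)).map H.subtype = zIn R := by
    rw [map_subtype_zIn, hS]
  have hle : pPrimeCore p ↥H ⊔ normalizer ((zIn (S : Subgroup ↥H) : Subgroup ↥H) : Set ↥H)
      ≤ L.comap H.subtype := by
    apply sup_le
    · rw [← Subgroup.map_le_iff_le_comap]; exact h1
    · intro n hn
      rw [Subgroup.mem_comap]
      apply h2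
      refine Subgroup.mem_inf.mpr ⟨?_, n.2⟩
      rw [← hZ]
      exact Subgroup.le_normalizer_map H.subtype (Subgroup.mem_map_of_mem H.subtype hn)
  rw [key] at hle
  intro x hx
  have h3 : (⟨x, hx⟩ : ↥H) ∈ L.comap H.subtype := hle (Subgroup.mem_top _)
  exact h3

/-- Puig: if `O_{p'}(H) = 1` then `Z(L(R)) ⊴ H`. -/
theorem puig_normal (p : ℕ) [Fact p.Prime] (hp : p ≠ 2) {H R : Subgroup G}
    (hsolv : Group.IsSolvable ↥H) (hodd : Odd (Nat.card H))
    (hRH : R ≤ H) (hR : Nat.card R = sylCard p H) (hbot : coreIn p H = ⊥) :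
    H ≤ normalizer (zIn R : Set G) := by
  obtain ⟨S, hS⟩ := exists_sylow_of_card p H R hRH hR
  have key := (Cfsg.Agent.S1469.result (G := ↥H) hodd p hp S).2
    ((coreIn_eq_bot_iff p H).mp hbot)
  rw [center_puigSubgroup_map] at key
  have hZ : (zIn (S : Subgroup ↥H)).map H.subtype = zIn R := by
    rw [map_subtype_zIn, hS]
  intro x hx
  have h1 : (⟨x, hx⟩ : ↥H) ∈ normalizer ((zIn (S : Subgroup ↥H) : Subgroup ↥H) : Set ↥H) := by
    rw [Subgroup.normalizer_eq_top_iff.mpr key]; exact Subgroup.mem_top _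
  rw [← hZ]
  exact Subgroup.le_normalizer_map H.subtype (Subgroup.mem_map_of_mem H.subtype h1)

/-- `Z(L(R)) ≠ 1` for a nontrivial `p`-group `R`. -/
theorem zIn_ne_bot (p : ℕ) [Fact p.Prime] {R : Subgroup G} (hRp : IsPGroup p R) (hR1 : R ≠ ⊥) :
    zIn R ≠ ⊥ := by
  haveI : Group.IsNilpotent ↥R := hRp.isNilpotent
  obtain ⟨k, hk⟩ := stab_in R
  have hup : seqIn R (2 * k + 1) = upIn R := (hk k le_rfl).2
  have h1 : R ⊓ centralizer (upIn R : Set G) ≤ upIn R := by
    have := inf_centralizer_seqIn_le R (2 * k)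
    rw [hup] at this
    exact this
  have h2 : R ⊓ centralizer (R : Set G) ≤ zIn R := by
    unfold zIn
    have h3 : R ⊓ centralizer (R : Set G) ≤ R ⊓ centralizer (upIn R : Set G) :=
      inf_le_inf_left _ (Subgroup.centralizer_le (upIn_le R))
    exact le_inf (h3.trans h1) (h3.trans inf_le_right)
  haveI : Nontrivial ↥R := by
    rw [Subgroup.nontrivial_iff_ne_bot]; exact hR1
  have hc : Nontrivial (Subgroup.center ↥R) := hRp.center_nontrivial
  obtain ⟨z, hz⟩ := exists_ne (1 : Subgroup.center ↥R)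
  intro hbot
  have hzmem : ((z : ↥R) : G) ∈ R ⊓ centralizer (R : Set G) := by
    refine Subgroup.mem_inf.mpr ⟨(z : ↥R).2, ?_⟩
    rw [Subgroup.mem_centralizer_iff]
    intro r hr
    have := (Subgroup.mem_center_iff.mp z.2) ⟨r, hr⟩
    have h4 := congrArg Subtype.val this
    simpa using h4
  have h5 := h2 hzmem
  rw [hbot, Subgroup.mem_bot] at h5
  apply hz
  apply Subtype.ext
  apply Subtype.ext
  simpa using h5

/-- Frattini factorization `H = O_{p'}(H) N_H(R ∩ O_{p',p}(H))`. -/
theorem frattini_le (p : ℕ) [Fact p.Prime] {H R : Subgroup G}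
    (hRH : R ≤ H) (hR : Nat.card R = sylCard p H) (L : Subgroup G)
    (h1 : coreIn p H ≤ L) (h2 : normalizer ((R ⊓ ppIn p H : Subgroup G) : Set G) ⊓ H ≤ L) :
    H ≤ L := by
  obtain ⟨S, hS⟩ := exists_sylow_of_card p H R hRH hR
  have key := frattini_pPrimePCore p S
  have hT : ((S : Subgroup ↥H) ⊓ pPrimePCore p ↥H).map H.subtype = R ⊓ ppIn p H := by
    rw [Subgroup.map_inf _ _ H.subtype H.subtype_injective, hS]; rfl
  have hle : pPrimeCore p ↥H ⊔
      normalizer ((((S : Subgroup ↥H) ⊓ pPrimePCore p ↥H : Subgroup ↥H)) : Set ↥H)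
      ≤ L.comap H.subtype := by
    apply sup_le
    · rw [← Subgroup.map_le_iff_le_comap]; exact h1
    · intro n hn
      rw [Subgroup.mem_comap]
      apply h2
      refine Subgroup.mem_inf.mpr ⟨?_, n.2⟩
      rw [← hT]
      exact Subgroup.le_normalizer_map H.subtype (Subgroup.mem_map_of_mem H.subtype hn)
  rw [key] at hle
  intro x hx
  have h3 : (⟨x, hx⟩ : ↥H) ∈ L.comap H.subtype := hle (Subgroup.mem_top _)
  exact h3

/-- `S1457` inside `G`: an abelian normal subgroup of a Sylow `p`-subgroup `R` of the solvable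
odd-order group `H` lies in `O_{p',p}(H)`. -/
theorem le_ppIn_of_abelian_normal (p : ℕ) [Fact p.Prime] {H R A : Subgroup G}
    (hsolv : Group.IsSolvable ↥H) (hodd : Odd (Nat.card H))
    (hRH : R ≤ H) (hR : Nat.card R = sylCard p H) (hAR : A ≤ R) (hAc : IsMulCommutative A)
    (hRA : R ≤ normalizer (A : Set G)) : A ≤ ppIn p H := by
  obtain ⟨S, hS⟩ := exists_sylow_of_card p H R hRH hR
  have hAH : A ≤ H := hAR.trans hRH
  have hA1 : A.subgroupOf H ≤ (S : Subgroup ↥H) := by
    intro a ha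
    rw [Subgroup.mem_subgroupOf] at ha
    have h1 : (a : G) ∈ (S : Subgroup ↥H).map H.subtype := by rw [hS]; exact hAR ha
    obtain ⟨b, hb, hba⟩ := Subgroup.mem_map.mp h1
    have : b = a := Subtype.ext hba
    rwa [← this]
  have hA2 : IsMulCommutative (A.subgroupOf H) := by
    refine ⟨⟨fun x y => ?_⟩⟩
    have hx : ((x : ↥H) : G) ∈ A := Subgroup.mem_subgroupOf.mp x.2
    have hy : ((y : ↥H) : G) ∈ A := Subgroup.mem_subgroupOf.mp y.2
    have h1 := hAc.is_comm.comm (⟨_, hx⟩ : ↥A) ⟨_, hy⟩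
    have h2 := congrArg Subtype.val h1
    apply Subtype.ext
    apply Subtype.ext
    simpa using h2
  have h3 := Cfsg.Agent.S1457.result (G := ↥H) hodd p S (A.subgroupOf H) hA1 hA2
    (normalizes_subgroupOf (S : Subgroup ↥H) hS hRA)
  have h4 : (A.subgroupOf H).map H.subtype ≤ ppIn p H := Subgroup.map_mono h3
  rwa [Subgroup.map_subgroupOf_eq_of_le hAH] at h4

/-- `S1450` inside `G`: if the solvable odd-order group `H` has `p`-rank at most `2`, its Sylow
`p`-subgroups lie in `O_{p',p}(H)`. -/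
theorem syl_le_ppIn_of_rank (p : ℕ) [hp : Fact p.Prime] {H R : Subgroup G}
    (hsolv : Group.IsSolvable ↥H) (hodd : Odd (Nat.card H))
    (hRH : R ≤ H) (hR : Nat.card R = sylCard p H) (hR1 : R ≠ ⊥) (hr : PRankLE p 2 ↥H) :
    R ≤ ppIn p H := by
  obtain ⟨S, hS⟩ := exists_sylow_of_card p H R hRH hR
  have hpH : p ∣ Nat.card H := by
    have h1 : 1 < Nat.card R := by
      rcases Nat.lt_or_ge 1 (Nat.card R) with h | h
      · exact h
      · exfalso
        apply hR1
        have h2 : Nat.card R = 1 := le_antisymm h Nat.card_pos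
        exact Subgroup.card_eq_one.mp h2
    have h3 : (Nat.card H).factorization p ≠ 0 := by
      intro h0
      rw [hR, sylCard, h0, pow_zero] at h1
      exact lt_irrefl _ h1
    exact Nat.dvd_of_factorization_pos h3
  have h5 := (Cfsg.Agent.S1450.result (G := ↥H) hodd p hpH hr).2.2.2.2.2
  have h6 := sylow_le_pPrimePCore_of_coprime p S h5
  rw [← hS]
  exact Subgroup.map_mono h6

end Cfsg.Agent.Helper15.BGU
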