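import Mathlib
import Cfsg.Agent.Lib.Helper15.BGU.Transport
import Cfsg.Agent.Lib.Helper54.BGTransitivity

/-!
# Sylow-order bookkeeping for subgroups of an ambient finite group (helper15)
-/

set_option autoImplicit false
set_option linter.unusedSectionVars false

namespace Cfsg.Agent.Helper15.BGU

open Cfsg Subgroup Cfsg.Agent.Helper52

variable {G : Type*} [Group G] [Finite G] (p : ℕ) [hp : Fact p.Prime]

theorem isPGroup_of_card_sylCard {R H : Subgroup G} (hR : Nat.card R = sylCard p H) :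
    IsPGroup p R := IsPGroup.of_card hR

theorem card_le_sylCard {Q K : Subgroup G} (hQ : IsPGroup p Q) (hQK : Q ≤ K) :
    Nat.card Q ≤ sylCard p K := by
  obtain ⟨k, hk⟩ := IsPGroup.iff_card.1 hQ
  have h1 : p ^ k ∣ Nat.card K := hk ▸ Subgroup.card_dvd_of_le hQK
  have h2 : k ≤ (Nat.card K).factorization p :=
    (hp.out.pow_dvd_iff_le_factorization Nat.card_pos.ne').1 h1
  rw [hk, sylCard]
  exact Nat.pow_le_pow_right hp.out.pos h2

theorem exists_syl_ge {Q K : Subgroup G} (hQ : IsPGroup p Q) (hQK : Q ≤ K) :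
    ∃ P : Subgroup G, Q ≤ P ∧ P ≤ K ∧ Nat.card P = sylCard p K := by
  have hQ' : IsPGroup p (Q.subgroupOf K) := hQ.comap_subtype
  obtain ⟨S, hS⟩ := hQ'.exists_le_sylow
  refine ⟨(S : Subgroup ↥K).map K.subtype, ?_, Subgroup.map_subtype_le _, card_sylow_map p K S⟩
  have h1 : (Q.subgroupOf K).map K.subtype ≤ (S : Subgroup ↥K).map K.subtype :=
    Subgroup.map_mono hS
  rwa [Subgroup.map_subgroupOf_eq_of_le hQK] at h1

theorem exists_lt_of_not_syl {R K : Subgroup G} (hRp : IsPGroup p R) (hRK : R ≤ K)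
    (hne : Nat.card R ≠ sylCard p K) :
    ∃ R' : Subgroup G, IsPGroup p R' ∧ R < R' ∧ R' ≤ K ∧ R' ≤ normalizer (R : Set G) := by
  obtain ⟨P, hRP, hPK, hP⟩ := exists_syl_ge p hRp hRK
  have hPp : IsPGroup p P := isPGroup_of_card_sylCard p hP
  have hne' : R ≠ P := by
    intro h
    rw [h] at hne
    exact hne hP
  have hlt := Helper54.card_lt_card_normalizer_inf R P hPp hRP hne'
  refine ⟨normalizer (R : Set G) ⊓ P, hPp.to_le inf_le_right, ?_, inf_le_right.trans hPK,
    inf_le_left⟩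
  refine lt_of_le_of_ne (le_inf Subgroup.le_normalizer hRP) ?_
  intro h
  rw [← h] at hlt
  exact lt_irrefl _ hlt

theorem syl_upgrade {R H M' : Subgroup G} (hRH : R ≤ H)
    (hR : Nat.card R = sylCard p (H ⊓ M')) (hN : normalizer (R : Set G) ⊓ H ≤ M') :
    Nat.card R = sylCard p H := by
  have hRp : IsPGroup p R := isPGroup_of_card_sylCard p hR
  by_contra hne
  obtain ⟨R', hR'p, hlt, hR'H, hR'N⟩ := exists_lt_of_not_syl p hRp hRH hne
  have h1 : R' ≤ H ⊓ M' := le_inf hR'H ((le_inf hR'N hR'H).trans hN)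
  have h2 : Nat.card R' ≤ Nat.card R := hR ▸ card_le_sylCard p hR'p h1
  have h3 : R = R' := Subgroup.eq_of_le_of_card_ge hlt.le h2
  exact hlt.ne h3

theorem sylCard_of_le_of_le {P H K : Subgroup G} (hPH : P ≤ H) (hHK : H ≤ K)
    (hP : Nat.card P = sylCard p K) : Nat.card P = sylCard p H := by
  rw [hP]
  unfold sylCard
  congr 1
  apply le_antisymm
  · have h1 : p ^ (Nat.card K).factorization p ∣ Nat.card H := by
      have := Subgroup.card_dvd_of_le hPH
      rwa [hP, sylCard] at this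
    exact (hp.out.pow_dvd_iff_le_factorization Nat.card_pos.ne').1 h1
  · have h2 : Nat.card H ∣ Nat.card K := Subgroup.card_dvd_of_le hHK
    exact (Nat.factorization_le_iff_dvd Nat.card_pos.ne' Nat.card_pos.ne').2 h2 p

/-- conjugates -/
theorem card_conj (g : G) (Y : Subgroup G) :
    Nat.card (Y.map (MulAut.conj g).toMonoidHom) = Nat.card Y :=
  Subgroup.card_map_of_injective (MulAut.conj g).injective

/-- if `T` normalizes `X` and `h` normalizes `T`, then `T` normalizes `X^h`. -/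
theorem le_normalizer_conj {T X : Subgroup G} {h : G} (hTX : T ≤ normalizer (X : Set G))
    (hh : h ∈ normalizer (T : Set G)) :
    T ≤ normalizer ((X.map (MulAut.conj h).toMonoidHom : Subgroup G) : Set G) := by
  intro t ht
  have ht0 : h⁻¹ * t * h ∈ T := by
    have := (Subgroup.mem_normalizer_iff.mp (inv_mem hh) t).mp ht
    simpa using this
  have hn := hTX ht0
  rw [Subgroup.mem_normalizer_iff] at hn ⊢
  intro x
  constructor
  · rintro ⟨y, hy, rfl⟩
    refine ⟨(h⁻¹ * t * h) * y * (h⁻¹ * t * h)⁻¹, (hn y).mp hy, ?_⟩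
    simp only [MulEquiv.coe_toMonoidHom, MulAut.conj_apply]
    group
  · rintro ⟨y, hy, hyx⟩
    simp only [MulEquiv.coe_toMonoidHom, MulAut.conj_apply] at hyx
    have h1 : (h⁻¹ * t * h)⁻¹ * y * (h⁻¹ * t * h) ∈ X := by
      have := (hn ((h⁻¹ * t * h)⁻¹ * y * (h⁻¹ * t * h))).mpr (by
        have e : (h⁻¹ * t * h) * ((h⁻¹ * t * h)⁻¹ * y * (h⁻¹ * t * h)) * (h⁻¹ * t * h)⁻¹ = y := by
          group
        rw [e]; exact hy)
      exact this
    refine ⟨(h⁻¹ * t * h)⁻¹ * y * (h⁻¹ * t * h), h1, ?_⟩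
    simp only [MulEquiv.coe_toMonoidHom, MulAut.conj_apply]
    have e2 : x = t⁻¹ * (h * y * h⁻¹) * t := by rw [hyx]; group
    rw [e2]
    group

/-- if `X^g ≤ X` then `g` normalizes `X` (finite). -/
theorem mem_normalizer_of_conj_le {X : Subgroup G} {g : G}
    (h : X.map (MulAut.conj g).toMonoidHom ≤ X) : g ∈ normalizer (X : Set G) := by
  have heq : X.map (MulAut.conj g).toMonoidHom = X :=
    Subgroup.eq_of_le_of_card_ge h (card_conj g X).ge
  exact Helper52.mem_normalizer_of_map_conj_eq heq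

end Cfsg.Agent.Helper15.BGU
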