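import Mathlib
import Cfsg.Agent.Lib.Helper15.BGU.Syl
import Cfsg.Agent.Lib.Helper24.RankThree
import Cfsg.Agent.S0015

/-!
# Rank bookkeeping and existence of `SCN_3` subgroups (helper15)
-/

set_option autoImplicit false
set_option linter.unusedSectionVars false

namespace Cfsg.Agent.Helper15.BGU

open Cfsg Subgroup

variable {G : Type*} [Group G] [Finite G] {p : ℕ} [hp : Fact p.Prime]

theorem exists_of_not_pRankLE {A : Subgroup G} {k : ℕ} (h : ¬ PRankLE p k ↥A) :
    ∃ F : Subgroup G, F ≤ A ∧ IsElementaryAbelian p F ∧ p ^ k < Nat.card F := by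
  unfold PRankLE at h
  push Not at h
  obtain ⟨C, hC1, hC2, hC3⟩ := h
  refine ⟨C.map A.subtype, Subgroup.map_subtype_le _, ⟨inferInstance, ?_⟩, ?_⟩
  · rintro _ ⟨c, hc, rfl⟩
    have := hC2 c hc
    have h2 := congrArg Subtype.val this
    simpa using h2
  · rw [Subgroup.card_map_of_injective A.subtype_injective]
    exact hC3

theorem not_pRankLE_of_le {A F : Subgroup G} {k : ℕ} (hFA : F ≤ A)
    (hF : IsElementaryAbelian p F) (hcard : p ^ k < Nat.card F) : ¬ PRankLE p k ↥A := by
  intro h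
  have hF1 : IsMulCommutative F := hF.1
  have h1 := h (F.subgroupOf A) inferInstance (by
    intro a ha
    rw [Subgroup.mem_subgroupOf] at ha
    apply Subtype.ext
    have := hF.2 (a : G) ha
    simpa using this)
  rw [Nat.card_congr (Subgroup.subgroupOfEquivOfLe hFA).toEquiv] at h1
  exact absurd hcard (not_lt.mpr h1)

theorem isElementaryAbelian_conj {F : Subgroup G} (hF : IsElementaryAbelian p F) (g : G) :
    IsElementaryAbelian p (F.map (MulAut.conj g).toMonoidHom) := by
  have hF1 : IsMulCommutative F := hF.1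
  refine ⟨inferInstance, ?_⟩
  rintro _ ⟨x, hx, rfl⟩
  rw [← map_pow, hF.2 x hx, map_one]

/-- a `p`-group (`p` odd) of rank at least `3` has an `SCN_3`-subgroup. -/
theorem exists_scn3 (hp2 : p ≠ 2) {P : Subgroup G} (hPp : IsPGroup p P)
    (hr : ¬ PRankLE p 2 ↥P) :
    ∃ A : Subgroup G, IsSCN P A ∧ IsMulCommutative A ∧ ¬ PRankLE p 2 ↥A := by
  classical
  obtain ⟨A₀, hA₀n, hA₀, hA₀3⟩ := Helper24.RankThree.exists_normal_cube hp2 hPp hr
  haveI : Group.IsNilpotent ↥P := hPp.isNilpotent
  obtain ⟨A₁, hA₀A₁, hmax⟩ := Finite.exists_le_maximal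
    (p := fun M : Subgroup ↥P => M.Normal ∧ IsMulCommutative M) (a := A₀) ⟨hA₀n, hA₀.1⟩
  haveI hA₁n : A₁.Normal := hmax.prop.1
  haveI hA₁c : IsMulCommutative A₁ := hmax.prop.2
  have hcent : Subgroup.centralizer (A₁ : Set ↥P) = A₁ := by
    apply Cfsg.Agent.S0015.result A₁
    intro M hMn hMc hAM
    exact le_antisymm (hmax.le_of_ge ⟨hMn, hMc⟩ hAM) hAM
  have hAcomm : IsMulCommutative (A₁.map P.subtype) := inferInstance
  refine ⟨A₁.map P.subtype, ⟨Subgroup.map_subtype_le _, ?_, ?_⟩, hAcomm, ?_⟩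
  · intro x hx
    have h1 : (⟨x, hx⟩ : ↥P) ∈ normalizer (A₁ : Set ↥P) := by
      rw [Subgroup.normalizer_eq_top_iff.mpr hA₁n]; exact Subgroup.mem_top _
    exact Subgroup.le_normalizer_map P.subtype (Subgroup.mem_map_of_mem P.subtype h1)
  · apply le_antisymm
    · rintro x ⟨hxP, hxC⟩
      have h1 : (⟨x, hxP⟩ : ↥P) ∈ Subgroup.centralizer (A₁ : Set ↥P) := by
        rw [Subgroup.mem_centralizer_iff]
        intro a ha
        apply Subtype.ext
        have := (Subgroup.mem_centralizer_iff.mp hxC) (a : G)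
          (Subgroup.mem_map_of_mem P.subtype ha)
        simpa using this
      rw [hcent] at h1
      exact ⟨⟨x, hxP⟩, h1, rfl⟩
    · apply le_inf (Subgroup.map_subtype_le _)
      exact Subgroup.le_centralizer_iff_isMulCommutative.mpr hAcomm
  · apply not_pRankLE_of_le (F := A₀.map P.subtype) (Subgroup.map_mono hA₀A₁)
    · have hA₀1 : IsMulCommutative A₀ := hA₀.1
      refine ⟨inferInstance, ?_⟩
      rintro _ ⟨c, hc, rfl⟩
      have := hA₀.2 c hc
      have h2 := congrArg Subtype.val this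
      simpa using h2
    · rw [Subgroup.card_map_of_injective P.subtype_injective, hA₀3]
      exact Nat.pow_lt_pow_right hp.out.one_lt (by norm_num)

end Cfsg.Agent.Helper15.BGU
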