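import Mathlib
import Cfsg.Agent.Lib.Helper15.BGU.Rank
import Cfsg.Agent.S0636

/-!
# Connectivity in `p`-groups of odd order (towards BG Corollary 9.3) (helper15)
-/

set_option autoImplicit false
set_option linter.unusedSectionVars false

namespace Cfsg.Agent.Helper15.BGU

open Cfsg Subgroup

variable {p : ℕ} [hp : Fact p.Prime]

/-- In a noncyclic `p`-group of odd order there are a central element `z` of order `p` and an
element `e ∉ ⟨z⟩` of order `p` with `[R, e] ≤ ⟨z⟩`. -/
theorem exists_pair (hp2 : p ≠ 2) {R : Type*} [Group R] [Finite R] (hR : IsPGroup p R)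
    (hnc : ¬ IsCyclic R) :
    ∃ z e : R, z ∈ Subgroup.center R ∧ z ≠ 1 ∧ z ^ p = 1 ∧ e ^ p = 1 ∧
      e ∉ Subgroup.zpowers z ∧ ∀ h : R, h * e * h⁻¹ * e⁻¹ ∈ Subgroup.zpowers z := by
  classical
  haveI : Group.IsNilpotent R := hR.isNilpotent
  have hnc' : ¬ IsCyclic ↥(⊤ : Subgroup R) := by
    intro h
    apply hnc
    exact isCyclic_of_surjective (Subgroup.topEquiv : ↥(⊤ : Subgroup R) ≃* R)
      (Subgroup.topEquiv : ↥(⊤ : Subgroup R) ≃* R).surjective
  obtain ⟨E, -, hEn, hEcomm, hEexp, hEcard⟩ := Cfsg.Agent.S0636.main hp2 hR (⊤ : Subgroup R) hnc'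
  haveI := hEn
  have hE1 : E ≠ ⊥ := by
    intro h
    rw [h, Subgroup.card_bot] at hEcard
    have : 1 < p ^ 2 := Nat.one_lt_pow (by norm_num) hp.out.one_lt
    omega
  have h1 := Cfsg.Agent.S0015.normal_inf_center_ne_bot E hE1
  obtain ⟨⟨z, hz⟩, hz1⟩ := (Subgroup.ne_bot_iff_exists_ne_one).mp h1
  have hz1' : z ≠ 1 := by
    intro h
    apply hz1
    exact Subtype.ext h
  have hzE : z ∈ E := (Subgroup.mem_inf.mp hz).1
  have hzC : z ∈ Subgroup.center R := (Subgroup.mem_inf.mp hz).2
  have hzp : z ^ p = 1 := hEexp z hzE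
  set N := Subgroup.zpowers z with hN
  have hNc : N ≤ Subgroup.center R := by
    rw [hN, Subgroup.zpowers_le]; exact hzC
  haveI hNn : N.Normal := by
    refine ⟨fun n hn g => ?_⟩
    have := (Subgroup.mem_center_iff.mp (hNc hn)) g
    have e : g * n * g⁻¹ = n := by rw [this]; group
    rw [e]; exact hn
  have hNcard : Nat.card N = p := by
    rw [hN, Nat.card_zpowers]
    exact orderOf_eq_prime hzp hz1'
  set π := QuotientGroup.mk' N with hπ
  have hπs : Function.Surjective π := QuotientGroup.mk'_surjective N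
  haveI hEbn : (E.map π).Normal := hEn.map π hπs
  have hEb1 : E.map π ≠ ⊥ := by
    intro h
    rw [Subgroup.map_eq_bot_iff, hπ, QuotientGroup.ker_mk'] at h
    have := Subgroup.card_le_of_le h
    rw [hEcard, hNcard] at this
    have h2 : p < p ^ 2 := by
      calc p = p ^ 1 := (pow_one p).symm
        _ < p ^ 2 := Nat.pow_lt_pow_right hp.out.one_lt (by norm_num)
    omega
  have h2 := Cfsg.Agent.S0015.normal_inf_center_ne_bot (E.map π) hEb1
  obtain ⟨⟨x, hx⟩, hx1⟩ := (Subgroup.ne_bot_iff_exists_ne_one).mp h2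
  have hx1' : x ≠ 1 := by
    intro h
    apply hx1
    exact Subtype.ext h
  obtain ⟨e, heE, hex⟩ := Subgroup.mem_map.mp (Subgroup.mem_inf.mp hx).1
  have hxC : x ∈ Subgroup.center (R ⧸ N) := (Subgroup.mem_inf.mp hx).2
  refine ⟨z, e, hzC, hz1', hzp, hEexp e heE, ?_, ?_⟩
  · intro heN
    apply hx1'
    rw [← hex, hπ, QuotientGroup.mk'_apply, QuotientGroup.eq_one_iff]
    exact heN
  · intro h
    rw [← QuotientGroup.eq_one_iff, ← QuotientGroup.mk'_apply, ← hπ]
    simp only [map_mul, map_inv, hex]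
    have := (Subgroup.mem_center_iff.mp hxC) (π h)
    rw [this]
    group

variable {G : Type*} [Group G] [Finite G]

/-- the same inside an ambient group, with the consequence for centralizers. -/
theorem exists_pair_in (hp2 : p ≠ 2) {S : Subgroup G} (hS : IsPGroup p S) (hnc : ¬ IsCyclic S) :
    ∃ z e : G, z ∈ S ∧ e ∈ S ∧ (∀ s ∈ S, s * z = z * s) ∧ z ≠ 1 ∧ z ^ p = 1 ∧ e ^ p = 1 ∧
      e ∉ Subgroup.zpowers z ∧
      ∀ F : Subgroup G, F ≤ S → p ^ 2 < Nat.card F →
        p < Nat.card (F ⊓ Subgroup.centralizer ({e} : Set G) : Subgroup G) := by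
  obtain ⟨z', e', hzC, hz1, hzp, hep, heN, hcomm⟩ := exists_pair hp2 hS hnc
  refine ⟨(z' : G), (e' : G), z'.2, e'.2, ?_, ?_, ?_, ?_, ?_, ?_⟩
  · intro s hs
    have := (Subgroup.mem_center_iff.mp hzC) ⟨s, hs⟩
    have h2 := congrArg Subtype.val this
    simpa using h2
  · intro h
    apply hz1
    exact Subtype.ext h
  · have h2 := congrArg Subtype.val hzp
    simpa using h2
  · have h2 := congrArg Subtype.val hep
    simpa using h2
  · intro hmem
    apply heN
    obtain ⟨k, hk⟩ := Subgroup.mem_zpowers_iff.mp hmem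
    refine Subgroup.mem_zpowers_iff.mpr ⟨k, ?_⟩
    apply Subtype.ext
    rw [Subgroup.coe_zpow]
    exact hk
  · intro F hFS hFc
    have hZ : Subgroup.zpowers z' ≤ Subgroup.center ↥S := by
      rw [Subgroup.zpowers_le]; exact hzC
    obtain ⟨k, hk1, hk2⟩ := Cfsg.Agent.Helper24.RankThree.card_eq_of_commHomC
      (F.subgroupOf S) (Subgroup.zpowers z') e' hZ (fun h _ => hcomm h)
    have hNcard : Nat.card (Subgroup.zpowers z') = p := by
      rw [Nat.card_zpowers]
      exact orderOf_eq_prime hzp hz1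
    rw [hNcard] at hk1
    have hkp : k ≤ p := Nat.le_of_dvd hp.out.pos hk1
    have hF' : Nat.card (F.subgroupOf S) = Nat.card F :=
      Nat.card_congr (Subgroup.subgroupOfEquivOfLe hFS).toEquiv
    have hle : Nat.card (F.subgroupOf S ⊓ Subgroup.centralizer ({e'} : Set ↥S) : Subgroup ↥S) ≤
        Nat.card (F ⊓ Subgroup.centralizer ({(e' : G)} : Set G) : Subgroup G) := by
      rw [← Subgroup.card_map_of_injective S.subtype_injective]
      apply Subgroup.card_le_of_le
      rintro _ ⟨x, hx, rfl⟩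
      obtain ⟨hx1, hx2⟩ := Subgroup.mem_inf.mp hx
      refine Subgroup.mem_inf.mpr ⟨Subgroup.mem_subgroupOf.mp hx1, ?_⟩
      rw [Subgroup.mem_centralizer_iff]
      intro y hy
      rw [Set.mem_singleton_iff] at hy
      rw [hy]
      have := (Subgroup.mem_centralizer_iff.mp hx2) e' (Set.mem_singleton _)
      have h2 := congrArg Subtype.val this
      simpa using h2
    rw [hF'] at hk2
    set c := Nat.card (F ⊓ Subgroup.centralizer ({(e' : G)} : Set G) : Subgroup G) with hc
    set c' := Nat.card (F.subgroupOf S ⊓ Subgroup.centralizer ({e'} : Set ↥S) : Subgroup ↥S)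
    have h3 : Nat.card F ≤ c * p := by
      rw [hk2]
      exact Nat.mul_le_mul hle hkp
    by_contra hcon
    rw [not_lt] at hcon
    have h4 : c * p ≤ p * p := Nat.mul_le_mul_right p hcon
    have h5 : p ^ 2 = p * p := sq p
    omega

end Cfsg.Agent.Helper15.BGU
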