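import Mathlib
import Cfsg.Agent.Lib.Helper15.BGU.Syl

/-!
# The uniqueness criterion (BG Theorem 9.1): context and first steps (helper15)
-/

set_option autoImplicit false
set_option linter.unusedSectionVars false

namespace Cfsg.Agent.Helper15.BGU

open Cfsg Subgroup Cfsg.Agent.Helper52 Cfsg.Agent.Helper54.Puig

variable {G : Type*} [Group G] [Finite G] {p : ℕ} [hp : Fact p.Prime]

/-- standing hypotheses of BG Theorem 9.1, in the form (b). -/
structure Ctx (G : Type*) [Group G] (p : ℕ) (M B : Subgroup G) : Prop where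
  hG : IsMinSimpleOddOrder G
  hM : IsCoatom M
  hBM : B ≤ M
  hB1 : B ≠ ⊥
  hBp : IsPGroup p B
  hb : ∀ Y : Subgroup G, (Nat.card Y).Coprime p → B ≤ normalizer (Y : Set G) → Y ≤ M

variable {M B : Subgroup G}

theorem Ctx.simple (c : Ctx G p M B) : IsSimpleGroup G := c.hG.2.1

theorem Ctx.solv (c : Ctx G p M B) {H : Subgroup G} (hH : H ≠ ⊤) : Group.IsSolvable ↥H :=
  c.hG.2.2.2 H hH

theorem Ctx.odd (c : Ctx G p M B) (H : Subgroup G) : Odd (Nat.card H) :=
  Odd.of_dvd_nat c.hG.1 (Subgroup.card_subgroup_dvd_card H)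

theorem Ctx.p_ne_two (c : Ctx G p M B) : p ≠ 2 := by
  intro h2
  have h1 : p ∣ Nat.card B := by
    obtain ⟨k, hk⟩ := IsPGroup.iff_card.1 c.hBp
    have hk0 : k ≠ 0 := by
      intro h0
      rw [h0, pow_zero] at hk
      exact c.hB1 (Subgroup.card_eq_one.mp hk)
    rw [hk]
    exact dvd_pow_self p hk0
  have h3 : Odd (Nat.card B) := c.odd B
  rw [h2] at h1
  exact (Nat.not_even_iff_odd.mpr h3) (even_iff_two_dvd.mpr h1)

theorem Ctx.M_ne_top (c : Ctx G p M B) : M ≠ ⊤ := c.hM.1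

/-- a proper subgroup containing `M` is `M`. -/
theorem Ctx.eq_of_le (c : Ctx G p M B) {L : Subgroup G} (hL : L ≠ ⊤) (hML : M ≤ L) : L = M := by
  by_contra hne
  exact hL (c.hM.2 L (lt_of_le_of_ne hML (Ne.symm hne)))

/-- the normalizer of a nontrivial subgroup of `M` normalized by `M` is `M`. -/
theorem Ctx.normalizer_eq (c : Ctx G p M B) {K : Subgroup G} (hK1 : K ≠ ⊥) (hKM : K ≤ M)
    (hMK : M ≤ normalizer (K : Set G)) : normalizer (K : Set G) = M := by
  haveI := c.simple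
  have hKtop : K ≠ ⊤ := by
    intro h
    rw [h] at hKM
    exact c.M_ne_top (top_le_iff.mp hKM)
  exact c.eq_of_le (Helper54.normalizer_ne_top_of_isSimpleGroup K hK1 hKtop) hMK

/-- every proper subgroup lies in a maximal subgroup. -/
theorem exists_coatom_ge {L : Subgroup G} (hL : L ≠ ⊤) : ∃ H : Subgroup G, IsCoatom H ∧ L ≤ H := by
  rcases eq_top_or_exists_le_coatom L with h | ⟨H, hH, hLH⟩
  · exact absurd h hL
  · exact ⟨H, hH, hLH⟩

/-- a maximal subgroup contained in `M` is `M`. -/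
theorem Ctx.coatom_eq_of_le (c : Ctx G p M B) {H : Subgroup G} (hH : IsCoatom H) (hHM : H ≤ M) :
    H = M := by
  by_contra hne
  exact c.M_ne_top (hH.2 M (lt_of_le_of_ne hHM hne))

/-- `O_{p'}(H) ≤ M` for every `H ≥ B`. -/
theorem Ctx.coreIn_le_M (c : Ctx G p M B) {H : Subgroup G} (hBH : B ≤ H) : coreIn p H ≤ M :=
  c.hb _ (coreIn_coprime p H) (hBH.trans (le_normalizer_coreIn p H))

/-- `P`-invariant `p'`-subgroups of `G` lie in `O_{p'}(M)` when `B ≤ P` and `P` is Sylow in `M`. -/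
theorem Ctx.inv_le_X (c : Ctx G p M B) {P : Subgroup G} (hPM : P ≤ M)
    (hP : Nat.card P = sylCard p M) (hBP : B ≤ P) {Y : Subgroup G} (hY : (Nat.card Y).Coprime p)
    (hPY : P ≤ normalizer (Y : Set G)) : Y ≤ coreIn p M :=
  inv_le_coreIn p (c.solv c.M_ne_top) hPM hP (c.hb Y hY (hBP.trans hPY)) hY hPY

theorem Ctx.ne_bot_of_le (c : Ctx G p M B) {R : Subgroup G} (hBR : B ≤ R) : R ≠ ⊥ := by
  intro h
  rw [h] at hBR
  exact c.hB1 (le_bot_iff.mp hBR)

/-- Step 1: `N_G(P) ≤ M` for a Sylow `p`-subgroup `P` of `M` containing `B`. -/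
theorem Ctx.normalizer_syl_le (c : Ctx G p M B) {P : Subgroup G} (hPM : P ≤ M)
    (hP : Nat.card P = sylCard p M) (hBP : B ≤ P) : normalizer (P : Set G) ≤ M := by
  have hPp : IsPGroup p P := isPGroup_of_card_sylCard p hP
  by_cases hX : coreIn p M = ⊥
  · -- Puig: Z(L(P)) is normal in M
    have h1 := puig_normal p c.p_ne_two (c.solv c.M_ne_top) (c.odd M) hPM hP hX
    have h2 : zIn P ≠ ⊥ := zIn_ne_bot p hPp (c.ne_bot_of_le hBP)
    have h3 : zIn P ≤ M := (inf_le_left.trans (upIn_le P)).trans hPM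
    have h4 := c.normalizer_eq h2 h3 h1
    rw [← h4]
    exact normalizer_le_normalizer_zIn P
  · have hN : normalizer (coreIn p M : Set G) = M :=
      c.normalizer_eq hX (coreIn_le p M) (le_normalizer_coreIn p M)
    intro g hg
    rw [← hN]
    apply mem_normalizer_of_conj_le
    apply c.inv_le_X hPM hP hBP
    · rw [card_conj]; exact coreIn_coprime p M
    · exact le_normalizer_conj (hPM.trans (le_normalizer_coreIn p M)) hg

end Cfsg.Agent.Helper15.BGU
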