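import Mathlib
import Cfsg.Agent.Lib.Helper15.BGU.Ctx
import Cfsg.Agent.Lib.Helper15.BGU.Rank
import Cfsg.Agent.S1393
import Cfsg.Agent.S1395
import Cfsg.Agent.S1396

/-!
# The uniqueness criterion (BG Theorem 9.1): the final step and the induction (helper15)
-/

set_option autoImplicit false
set_option linter.unusedSectionVars false

namespace Cfsg.Agent.Helper15.BGU

open Cfsg Subgroup Cfsg.Agent.Helper52 Cfsg.Agent.Helper54 Cfsg.Agent.Helper54.Puig

variable {G : Type*} [Group G] [Finite G] {p : ℕ} [hp : Fact p.Prime] {M B : Subgroup G}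

theorem Ctx.p_dvd_card (c : Ctx G p M B) : p ∣ Nat.card G := by
  have h1 : p ∣ Nat.card B := by
    obtain ⟨k, hk⟩ := IsPGroup.iff_card.1 c.hBp
    have hk0 : k ≠ 0 := by
      intro h0
      rw [h0, pow_zero] at hk
      exact c.hB1 (Subgroup.card_eq_one.mp hk)
    rw [hk]
    exact dvd_pow_self p hk0
  exact h1.trans (Subgroup.card_subgroup_dvd_card B)

theorem coprime_of_isPGroup_ne {q : ℕ} (hq : q.Prime) (hqp : q ≠ p) {Q : Subgroup G}
    (hQ : IsPGroup q Q) : (Nat.card Q).Coprime p := by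
  haveI : Fact q.Prime := ⟨hq⟩
  obtain ⟨k, hk⟩ := IsPGroup.iff_card.1 hQ
  rw [hk]
  exact Nat.Coprime.pow_left k ((Nat.coprime_primes hq hp.out).mpr hqp)

/-- conjugating a subgroup of `X` by an element of `X` stays in `X`. -/
theorem map_conj_le_of_mem {X Q : Subgroup G} {k : G} (hk : k ∈ X) (hQ : Q ≤ X) :
    Q.map (MulAut.conj k).toMonoidHom ≤ X := by
  rintro _ ⟨x, hx, rfl⟩
  simp only [MulEquiv.coe_toMonoidHom, MulAut.conj_apply]
  exact X.mul_mem (X.mul_mem hk (hQ hx)) (X.inv_mem hk)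

/-- Claim C: with `A ∈ SCN_3(P)`, `P` Sylow in `G` and `M`, all `A`-invariant `p'`-subgroups
of `G` lie in `O_{p'}(M)`. -/
theorem Ctx.inv_le_X_of_scn (c : Ctx G p M B) {P : Subgroup G} (hPM : P ≤ M)
    (hP : Nat.card P = sylCard p M) (hPG : Nat.card P = sylCard p (⊤ : Subgroup G))
    (hBP : B ≤ P) {A : Subgroup G} (hscn : IsSCN P A) (hAc : IsMulCommutative A)
    (hAr : ¬ PRankLE p 2 ↥A) {W : Subgroup G} (hW : (Nat.card W).Coprime p)
    (hAW : A ≤ normalizer (W : Set G)) : W ≤ coreIn p M := by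
  have hPp : IsPGroup p P := isPGroup_of_card_sylCard p hP
  have hAp : IsPGroup p A := hPp.to_le hscn.1
  have hpG : p ∣ Nat.card G := c.p_dvd_card
  have hPtop : P ≠ ⊤ := by
    intro h
    rw [h] at hPM
    exact c.M_ne_top (top_le_iff.mp hPM)
  -- P as a Sylow subgroup of G
  have hPcard : Nat.card P = p ^ (Nat.card G).factorization p := by
    rw [hPG, sylCard, Subgroup.card_top]
  set PS : Sylow p G := Sylow.ofCard P hPcard with hPS
  have hPScoe : (PS : Subgroup G) = P := Sylow.coe_ofCard P hPcard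
  have hnr1 : ¬ PRankLE p 1 ↥A := by
    intro h
    apply hAr
    intro C hC1 hC2
    exact (h C hC1 hC2).trans (Nat.pow_le_pow_right hp.out.pos (by norm_num))
  have hA : TransitivityHypothesis A := by
    apply Cfsg.Agent.S1396.result c.hG p hpG A hAp hAc
    right
    refine ⟨PS, ?_, hnr1⟩
    rw [hPScoe]
    exact hscn
  have hAcent : A ≤ centralizer (A : Set G) := Subgroup.le_centralizer_iff_isMulCommutative.mpr hAc
  have hZ : ¬ RankLE 2 ↥(A ⊓ centralizer (A : Set G)) := by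
    rw [inf_of_le_left hAcent]
    intro h
    exact hAr (h p hp.out)
  obtain ⟨kA, hkA⟩ := IsPGroup.iff_card.1 hAp
  -- the core of C_G(A)
  set KA := piCoreOf (primesNotDvd (Nat.card A)) (centralizer (A : Set G)) with hKA
  have hA1 : A ≠ ⊥ := hA.1
  have hkA0 : kA ≠ 0 := by
    intro h0
    rw [h0, pow_zero] at hkA
    exact hA1 (Subgroup.card_eq_one.mp hkA)
  have hpA : p ∣ Nat.card A := by rw [hkA]; exact dvd_pow_self p hkA0
  have hKAcop : (Nat.card KA).Coprime p := by
    rw [Nat.coprime_comm, Nat.Prime.coprime_iff_not_dvd hp.out]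
    intro hd
    have := isPi_piCoreOf (primesNotDvd (Nat.card A)) (centralizer (A : Set G)) p hp.out hd
    exact this.2 hpA
  have hKAX : KA ≤ coreIn p M := by
    apply c.inv_le_X hPM hP hBP hKAcop
    exact hscn.2.1.trans (normalizer_le_normalizer_piCoreOf_centralizer _ A)
  -- q-subgroups
  have key : ∀ q : ℕ, q.Prime → q ≠ p → ∀ Q : Subgroup G, IsPGroup q Q →
      A ≤ normalizer (Q : Set G) → Q ≤ coreIn p M := by
    intro q hq hqp Q hQq hAQ
    haveI : Fact q.Prime := ⟨hq⟩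
    have hqA : ¬ q ∣ Nat.card A := by
      rw [hkA]
      intro hd
      exact hqp ((Nat.prime_dvd_prime_iff_eq hq hp.out).mp (hq.dvd_of_dvd_pow hd))
    obtain ⟨Q₁, hQ₁, hQQ₁⟩ := exists_isMaxInvQ_ge hQq hAQ
    obtain ⟨Q₀, hQ₀, -⟩ := exists_isMaxInvQ_ge (E := P) (q := q) (R := ⊥) IsPGroup.of_bot (by
      intro x _
      rw [Subgroup.mem_normalizer_iff]
      intro y
      simp only [Subgroup.mem_bot]
      constructor
      · intro h; rw [h]; group
      · intro h
        have : y = x⁻¹ * (x * y * x⁻¹) * x := by group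
        rw [this, h]; group)
    have hQ₀mem := mem_maxInvSubgroups_of_isMaxInvQ P q Q₀ hQ₀
    have htr := Cfsg.Agent.S1393.result c.hG A hA hZ q hq hqA
    have hPπ : ∀ r : ℕ, r.Prime → r ∣ Nat.card P → r ∣ Nat.card A := by
      intro r hr hrd
      obtain ⟨kP, hkP⟩ := IsPGroup.iff_card.1 hPp
      rw [hkP] at hrd
      have : r = p := (Nat.prime_dvd_prime_iff_eq hr hp.out).mp (hr.dvd_of_dvd_pow hrd)
      rw [this]; exact hpA
    have hsn : (A.subgroupOf P).IsSubnormal :=
      ((Subgroup.normal_subgroupOf_iff_le_normalizer hscn.1).mpr hscn.2.1).isSubnormal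
    have hsub := (Cfsg.Agent.S1395.result c.hG A hA q hq hqA P hPtop hPπ hscn.1 hsn htr).2.2.1
    have hQ₀A := hsub hQ₀mem
    have hQ₁A := mem_maxInvSubgroups_of_isMaxInvQ A q Q₁ hQ₁
    obtain ⟨k, hk, hQ₁eq⟩ := htr Q₀ hQ₀A Q₁ hQ₁A
    have hQ₀X : Q₀ ≤ coreIn p M :=
      c.inv_le_X hPM hP hBP (coprime_of_isPGroup_ne hq hqp hQ₀.1) hQ₀.2.1
    have hQ₁X : Q₁ ≤ coreIn p M := by
      rw [hQ₁eq]
      exact map_conj_le_of_mem (hKAX hk) hQ₀X
    exact hQQ₁.trans hQ₁X
  -- decompose W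
  have hcopAW : (Nat.card A).Coprime (Nat.card W) := by
    rw [hkA]
    exact Nat.Coprime.pow_left kA hW.symm
  haveI : Group.IsNilpotent ↥A := hAp.isNilpotent
  have hsolvA : Group.IsSolvable ↥A := inferInstance
  have hdvd : Nat.card W ∣ Nat.card (W ⊓ coreIn p M : Subgroup G) := by
    rw [← Nat.factorization_prime_le_iff_dvd Nat.card_pos.ne' Nat.card_pos.ne']
    intro q hq
    haveI : Fact q.Prime := ⟨hq⟩
    obtain ⟨Q, hQW, hQcard, hAQ⟩ := exists_invariant_sylow A W hAW hcopAW (Or.inl hsolvA) q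
    by_cases hqp : q = p
    · have : (Nat.card W).factorization q = 0 := by
        rw [hqp]
        apply Nat.factorization_eq_zero_of_not_dvd
        intro hd
        have := Nat.Coprime.eq_one_of_dvd hW.symm hd
        exact hp.out.one_lt.ne' this
      rw [this]
      exact Nat.zero_le _
    · have hQq : IsPGroup q Q := isPGroup_of_card_sylCard q hQcard
      have hQX := key q hq hqp Q hQq hAQ
      have h1 : Nat.card Q ∣ Nat.card (W ⊓ coreIn p M : Subgroup G) :=
        Subgroup.card_dvd_of_le (le_inf hQW hQX)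
      rw [hQcard, sylCard] at h1
      exact (hq.pow_dvd_iff_le_factorization Nat.card_pos.ne').1 h1
  have hle : Nat.card W ≤ Nat.card (W ⊓ coreIn p M : Subgroup G) :=
    Nat.le_of_dvd Nat.card_pos hdvd
  have heq : W ⊓ coreIn p M = W := Subgroup.eq_of_le_of_card_ge inf_le_left hle
  rw [← heq]
  exact inf_le_right

end Cfsg.Agent.Helper15.BGU
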