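import Mathlib
import Cfsg.Agent.Lib.Helper15.BGU.Final
import Cfsg.Agent.S0058

/-!
# The uniqueness criterion (BG Theorem 9.1) (helper15)
-/

set_option autoImplicit false
set_option linter.unusedSectionVars false

namespace Cfsg.Agent.Helper15.BGU

open Cfsg Subgroup Cfsg.Agent.Helper52 Cfsg.Agent.Helper54 Cfsg.Agent.Helper54.Puig

variable {G : Type*} [Group G] [Finite G] {p : ℕ} [hp : Fact p.Prime] {M B : Subgroup G}

theorem isPGroup_of_isElementaryAbelian {F : Subgroup G} (hF : IsElementaryAbelian p F) :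
    IsPGroup p F := by
  intro g
  refine ⟨1, ?_⟩
  apply Subtype.ext
  have := hF.2 (g : G) g.2
  simpa using this

/-- Final step: a maximal subgroup containing a Sylow `p`-subgroup `P ≥ B` of `G` lying in `M`
is `M`. -/
theorem Ctx.final (c : Ctx G p M B) {P : Subgroup G} (hPM : P ≤ M)
    (hP : Nat.card P = sylCard p M) (hPG : Nat.card P = sylCard p (⊤ : Subgroup G))
    (hBP : B ≤ P) {H : Subgroup G} (hH : IsCoatom H) (hPH : P ≤ H) : H = M := by
  have hp2 : p ≠ 2 := c.p_ne_two
  have hPp : IsPGroup p P := isPGroup_of_card_sylCard p hP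
  have hP1 : P ≠ ⊥ := c.ne_bot_of_le hBP
  have hHtop : H ≠ ⊤ := hH.1
  have hsolvH := c.solv hHtop
  have hoddH := c.odd H
  have hsolvM := c.solv c.M_ne_top
  have hoddM := c.odd M
  have hPHs : Nat.card P = sylCard p H := sylCard_of_le_of_le p hPH le_top hPG
  have hY : coreIn p H ≤ coreIn p M :=
    c.inv_le_X hPM hP hBP (coreIn_coprime p H) (hPH.trans (le_normalizer_coreIn p H))
  apply c.coatom_eq_of_le hH
  by_cases hX : coreIn p M = ⊥
  · have hYbot : coreIn p H = ⊥ := by
      rw [hX] at hY; exact le_bot_iff.mp hY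
    have h1 := puig_normal p hp2 hsolvH hoddH hPH hPHs hYbot
    have h2 := puig_normal p hp2 hsolvM hoddM hPM hP hX
    have h3 : zIn P ≤ M := (inf_le_left.trans (upIn_le P)).trans hPM
    have h4 := c.normalizer_eq (zIn_ne_bot p hPp hP1) h3 h2
    rw [← h4]
    exact h1
  · have hN : normalizer (coreIn p M : Set G) = M :=
      c.normalizer_eq hX (coreIn_le p M) (le_normalizer_coreIn p M)
    apply frattini_le p hPH hPHs M (hY.trans (coreIn_le p M))
    by_cases hr : PRankLE p 2 ↥H
    · have hle := syl_le_ppIn_of_rank p hsolvH hoddH hPH hPHs hP1 hr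
      rw [inf_of_le_left hle]
      exact inf_le_left.trans (c.normalizer_syl_le hPM hP hBP)
    · -- rank at least 3
      have hrP : ¬ PRankLE p 2 ↥P := by
        obtain ⟨F, hFH, hF, hFc⟩ := exists_of_not_pRankLE hr
        have hFp : IsPGroup p F := isPGroup_of_isElementaryAbelian hF
        obtain ⟨P₁, hFP₁, hP₁H, hP₁c⟩ := exists_syl_ge p hFp hFH
        obtain ⟨k, -, hPeq⟩ := exists_conj_of_card p H P₁ P hP₁H hPH hP₁c hPHs
        apply not_pRankLE_of_le (F := F.map (MulAut.conj k).toMonoidHom)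
        · rw [hPeq]; exact Subgroup.map_mono hFP₁
        · exact isElementaryAbelian_conj hF k
        · rw [card_conj]; exact hFc
      obtain ⟨A, hscn, hAc, hAr⟩ := exists_scn3 hp2 hPp hrP
      have hAle : A ≤ ppIn p H :=
        le_ppIn_of_abelian_normal p hsolvH hoddH hPH hPHs hscn.1 hAc hscn.2.1
      rintro h ⟨hhN, -⟩
      rw [← hN]
      apply mem_normalizer_of_conj_le
      apply c.inv_le_X_of_scn hPM hP hPG hBP hscn hAc hAr
      · rw [card_conj]; exact coreIn_coprime p M
      · have hT : P ⊓ ppIn p H ≤ normalizer (coreIn p M : Set G) :=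
          inf_le_left.trans (hPM.trans (le_normalizer_coreIn p M))
        exact (le_inf hscn.1 hAle).trans (le_normalizer_conj hT hhN)

/-- The induction: every maximal subgroup containing a `p`-subgroup `R` with `B ≤ R ≤ M` is `M`. -/
theorem Ctx.main_aux (c : Ctx G p M B) (n : ℕ) : ∀ R : Subgroup G, Nat.card M - Nat.card R = n →
    IsPGroup p R → B ≤ R → R ≤ M → ∀ H : Subgroup G, IsCoatom H → R ≤ H → H = M := by
  induction n using Nat.strong_induction_on with
  | _ n ih =>
  intro R hn hRp hBR hRM H hH hRH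
  have hp2 : p ≠ 2 := c.p_ne_two
  haveI := c.simple
  -- the induction hypothesis for larger p-subgroups of M
  have IH : ∀ R' : Subgroup G, IsPGroup p R' → R < R' → R' ≤ M →
      ∀ H' : Subgroup G, IsCoatom H' → R' ≤ H' → H' = M := by
    intro R' hR'p hlt hR'M H' hH' hR'H'
    have hc1 : Nat.card R < Nat.card R' := by
      by_contra hge
      rw [not_lt] at hge
      exact hlt.ne (Subgroup.eq_of_le_of_card_ge hlt.le hge)
    have hc2 : Nat.card R' ≤ Nat.card M := Subgroup.card_le_of_le hR'M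
    exact ih (Nat.card M - Nat.card R') (by omega) R' rfl hR'p (hBR.trans hlt.le) hR'M H' hH' hR'H'
  by_contra hne
  have hR1 : R ≠ ⊥ := c.ne_bot_of_le hBR
  have hRtop : R ≠ ⊤ := by
    intro h
    rw [h] at hRM
    exact c.M_ne_top (top_le_iff.mp hRM)
  -- R is Sylow in H ⊓ M
  have hRHM : Nat.card R = sylCard p (H ⊓ M) := by
    by_contra hns
    obtain ⟨R', hR'p, hlt, hR'HM, -⟩ := exists_lt_of_not_syl p hRp (le_inf hRH hRM) hns
    exact hne (IH R' hR'p hlt (hR'HM.trans inf_le_right) H hH (hR'HM.trans inf_le_left))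
  by_cases hRs : Nat.card R = sylCard p M
  · -- R is Sylow in M, hence in G
    have hNR : normalizer (R : Set G) ≤ M := c.normalizer_syl_le hRM hRs hBR
    have hRG : Nat.card R = sylCard p (⊤ : Subgroup G) := by
      apply syl_upgrade p (M' := M) le_top
      · rw [top_inf_eq]; exact hRs
      · exact inf_le_left.trans hNR
    exact hne (c.final hRM hRs hRG hBR hH hRH)
  · obtain ⟨R', hR'p, hlt, hR'M, hR'N⟩ := exists_lt_of_not_syl p hRp hRM hRs
    -- N_G(R) ≤ M
    have hNR : normalizer (R : Set G) ≤ M := by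
      obtain ⟨H₁, hH₁, hle⟩ := exists_coatom_ge
        (Helper54.normalizer_ne_top_of_isSimpleGroup R hR1 hRtop)
      have := IH R' hR'p hlt hR'M H₁ hH₁ (hR'N.trans hle)
      rw [← this]; exact hle
    have hRHs : Nat.card R = sylCard p H :=
      syl_upgrade p hRH hRHM (inf_le_left.trans hNR)
    -- N_G(Z(L(R))) ≤ M
    have hZ1 : zIn R ≠ ⊥ := zIn_ne_bot p hRp hR1
    have hZR : zIn R ≤ R := inf_le_left.trans (upIn_le R)
    have hZtop : zIn R ≠ ⊤ := by
      intro h
      rw [h] at hZR
      exact hRtop (top_le_iff.mp hZR)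
    have hNZ : normalizer (zIn R : Set G) ≤ M := by
      obtain ⟨H₂, hH₂, hle⟩ := exists_coatom_ge
        (Helper54.normalizer_ne_top_of_isSimpleGroup (zIn R) hZ1 hZtop)
      have := IH R' hR'p hlt hR'M H₂ hH₂
        ((hR'N.trans (normalizer_le_normalizer_zIn R)).trans hle)
      rw [← this]; exact hle
    apply hne
    apply c.coatom_eq_of_le hH
    exact puig_le p hp2 (c.solv hH.1) (c.odd H) hRH hRHs M (c.coreIn_le_M (hBR.trans hRH))
      (inf_le_left.trans hNZ)

/-- BG Theorem 9.1 in the form (b). -/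
theorem Ctx.unique (c : Ctx G p M B) {H : Subgroup G} (hH : IsCoatom H) (hBH : B ≤ H) : H = M :=
  c.main_aux _ B rfl c.hBp le_rfl c.hBM H hH hBH

end Cfsg.Agent.Helper15.BGU
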