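import Mathlib
import Cfsg.Agent.Lib.Helper15.BGU.Conn
import Cfsg.Agent.Lib.Helper15.BGU.Main

/-!
# Small lemmas for BG Corollary 9.3 (helper15)
-/

set_option autoImplicit false
set_option linter.unusedSectionVars false

namespace Cfsg.Agent.Helper15.BGU

open Cfsg Subgroup

variable {p : ℕ} [hp : Fact p.Prime] {G : Type*} [Group G] [Finite G]

theorem inUniqueMaximal_conj (g : G) {X : Subgroup G} (h : InUniqueMaximal X) :
    InUniqueMaximal (X.map (MulAut.conj g).toMonoidHom) := by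
  obtain ⟨M, ⟨hM, hXM⟩, huniq⟩ := h
  set φ : Subgroup G ≃o Subgroup G := (MulAut.conj g).mapSubgroup with hφ
  have hφa : ∀ H : Subgroup G, φ H = H.map (MulAut.conj g).toMonoidHom := fun H => rfl
  refine ⟨φ M, ⟨(φ.isCoatom_iff M).mpr hM, Subgroup.map_mono hXM⟩, ?_⟩
  rintro H ⟨hH, hXH⟩
  have h1 : IsCoatom (φ.symm H) := by
    rw [← φ.isCoatom_iff, OrderIso.apply_symm_apply]; exact hH
  have h2 : X ≤ φ.symm H := by
    rw [← φ.le_iff_le, OrderIso.apply_symm_apply, hφa]; exact hXH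
  have h3 := huniq (φ.symm H) ⟨h1, h2⟩
  rw [← h3, OrderIso.apply_symm_apply]

theorem not_rankLE_one_of {F K : Subgroup G} (hFK : F ≤ K) (hF : IsElementaryAbelian p F)
    (hc : p < Nat.card F) : ¬ RankLE 1 ↥K := by
  intro h
  exact not_pRankLE_of_le hFK hF (by rwa [pow_one]) (h p hp.out)

theorem isElementaryAbelian_of_le {F F' : Subgroup G} (hF : IsElementaryAbelian p F)
    (h : F' ≤ F) : IsElementaryAbelian p F' := by
  refine ⟨⟨⟨fun x y => ?_⟩⟩, fun a ha => hF.2 a (h ha)⟩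
  have h1 := hF.1.is_comm.comm (⟨x, h x.2⟩ : ↥F) ⟨y, h y.2⟩
  have h2 := congrArg Subtype.val h1
  apply Subtype.ext
  simpa using h2

theorem not_isCyclic_of_isElementaryAbelian {F : Subgroup G} (hF : IsElementaryAbelian p F)
    (hc : p < Nat.card F) : ¬ IsCyclic ↥F := by
  intro hcyc
  obtain ⟨g, hg⟩ := hcyc.exists_generator
  have h1 : orderOf g = Nat.card ↥F := orderOf_eq_card_of_forall_mem_zpowers hg
  have h2 : g ^ p = 1 := by
    apply Subtype.ext
    have := hF.2 (g : G) g.2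
    simpa using this
  have h3 : orderOf g ∣ p := orderOf_dvd_of_pow_eq_one h2
  have h4 : orderOf g ≤ p := Nat.le_of_dvd hp.out.pos h3
  omega

theorem not_isCyclic_of_le {F S : Subgroup G} (hFS : F ≤ S) (hF : IsElementaryAbelian p F)
    (hc : p < Nat.card F) : ¬ IsCyclic ↥S := by
  intro hcyc
  have h1 : IsCyclic ↥(F.subgroupOf S) := inferInstance
  apply not_isCyclic_of_isElementaryAbelian hF hc
  exact isCyclic_of_surjective (Subgroup.subgroupOfEquivOfLe hFS)
    (Subgroup.subgroupOfEquivOfLe hFS).surjective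

theorem isElementaryAbelian_zpowers {x : G} (hx : x ^ p = 1) :
    IsElementaryAbelian p (Subgroup.zpowers x) := by
  refine ⟨inferInstance, ?_⟩
  intro a ha
  obtain ⟨k, rfl⟩ := Subgroup.mem_zpowers_iff.mp ha
  rw [← zpow_natCast, ← zpow_mul, mul_comm, zpow_mul, zpow_natCast, hx, one_zpow]

theorem p_ne_two_of_odd (hodd : Odd (Nat.card G)) {F : Subgroup G} (hFp : IsPGroup p F)
    (hF1 : 1 < Nat.card F) : p ≠ 2 := by
  intro h2
  obtain ⟨k, hk⟩ := IsPGroup.iff_card.1 hFp
  have hk0 : k ≠ 0 := by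
    intro h0
    rw [h0, pow_zero] at hk
    omega
  have h1 : p ∣ Nat.card G := by
    have : p ∣ Nat.card F := by rw [hk]; exact dvd_pow_self p hk0
    exact this.trans (Subgroup.card_subgroup_dvd_card F)
  rw [h2] at h1
  exact (Nat.not_even_iff_odd.mpr hodd) (even_iff_two_dvd.mpr h1)

end Cfsg.Agent.Helper15.BGU
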