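import Mathlib
import Cfsg.Agent.Lib.Helper15.BGU.Final

/-!
# Two steps towards BG Lemma 9.5 (helper15)

* `normalizer_le_of_maxInv`: if `M ≥ C_G(A)` contains the normalizer of one maximal `A`-invariant
  `q`-subgroup, it contains `N_G(T)` for every `π(A)`-subgroup `T` in which `A` is subnormal.
* `le_of_frattini`: `M ≤ H` as soon as `O_{p'}(M) ≤ H` and `N_M(T) ≤ H` for all `p`-subgroups
  `T ≥ A`, where `A` is abelian normal in a Sylow `p`-subgroup of `M`.
-/

set_option autoImplicit false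
set_option linter.unusedSectionVars false

namespace Cfsg.Agent.Helper15.BGU

open Cfsg Subgroup Cfsg.Agent.Helper52 Cfsg.Agent.Helper54

variable {G : Type*} [Group G] [Finite G]

theorem normalizer_map_conj_le {Q M : Subgroup G} {k : G} (hk : k ∈ M)
    (hNQ : normalizer (Q : Set G) ≤ M) :
    normalizer ((Q.map (MulAut.conj k).toMonoidHom : Subgroup G) : Set G) ≤ M := by
  have h1 := Subgroup.map_equiv_normalizer_eq Q (MulAut.conj k)
  rw [← h1]
  exact map_conj_le_of_mem hk hNQ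

theorem normalizer_le_of_maxInv (hG : IsMinSimpleOddOrder G) (A : Subgroup G)
    (hA : TransitivityHypothesis A)
    (hZ : ¬ RankLE 2 ↥(A ⊓ centralizer (A : Set G))) (M : Subgroup G)
    (hCM : centralizer (A : Set G) ≤ M) (q : ℕ) (hq : q.Prime) (hqA : ¬ q ∣ Nat.card A)
    (Q : Subgroup G) (hQ : Q ∈ maxInvSubgroups ⊤ A {q}) (hNQ : normalizer (Q : Set G) ≤ M)
    (T : Subgroup G) (hT : T ≠ ⊤) (hTπ : ∀ r : ℕ, r.Prime → r ∣ Nat.card T → r ∣ Nat.card A)
    (hAT : A ≤ T) (hsn : (A.subgroupOf T).IsSubnormal) : normalizer (T : Set G) ≤ M := by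
  haveI : Fact q.Prime := ⟨hq⟩
  have htr := Cfsg.Agent.S1393.result hG A hA hZ q hq hqA
  obtain ⟨h1, -, h3, h4⟩ := Cfsg.Agent.S1395.result hG A hA q hq hqA T hT hTπ hAT hsn htr
  obtain ⟨QT, hQT, -⟩ := exists_isMaxInvQ_ge (E := T) (q := q) (R := ⊥) IsPGroup.of_bot (by
    intro x _
    rw [Subgroup.mem_normalizer_iff]
    intro y
    simp only [Subgroup.mem_bot]
    constructor
    · intro h; rw [h]; group
    · intro h
      have : y = x⁻¹ * (x * y * x⁻¹) * x := by group
      rw [this, h]; group)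
  have hQTmem := mem_maxInvSubgroups_of_isMaxInvQ T q QT hQT
  have hQTA := h3 hQTmem
  obtain ⟨k, hk, hQTeq⟩ := htr Q hQ QT hQTA
  have hKM : piCoreOf (primesNotDvd (Nat.card A)) (centralizer (A : Set G)) ≤ M :=
    (piCoreOf_le _ _).trans hCM
  have hNQT : normalizer (QT : Set G) ≤ M := by
    rw [hQTeq]
    exact normalizer_map_conj_le (hKM hk) hNQ
  rw [(h4 QT hQTmem).2]
  apply sup_le
  · rw [← h1]
    exact inf_le_left.trans hKM
  · exact inf_le_right.trans hNQT

theorem le_of_frattini (hG : IsMinSimpleOddOrder G) (p : ℕ) [Fact p.Prime] (M : Subgroup G)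
    (hM : M ≠ ⊤) (P : Subgroup G) (hPM : P ≤ M) (hP : Nat.card P = sylCard p M) (A : Subgroup G)
    (hAP : A ≤ P) (hAc : IsMulCommutative A) (hPA : P ≤ normalizer (A : Set G)) (H : Subgroup G)
    (h1 : coreIn p M ≤ H)
    (h2 : ∀ T : Subgroup G, IsPGroup p T → A ≤ T → normalizer (T : Set G) ⊓ M ≤ H) : M ≤ H := by
  have hsolv : Group.IsSolvable ↥M := hG.2.2.2 M hM
  have hodd : Odd (Nat.card M) := Odd.of_dvd_nat hG.1 (Subgroup.card_subgroup_dvd_card M)
  have hPp : IsPGroup p P := isPGroup_of_card_sylCard p hP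
  apply frattini_le p hPM hP H h1
  apply h2 _ (hPp.to_le inf_le_left)
  exact le_inf hAP (le_ppIn_of_abelian_normal p hsolv hodd hPM hP hAP hAc hPA)

/-- in a finite `p`-group every subgroup is subnormal -/
theorem isSubnormal_of_isPGroup_h15 {H : Type*} [Group H] [Finite H] {p : ℕ} [Fact p.Prime]
    (hH : IsPGroup p H) (S : Subgroup H) : S.IsSubnormal := by
  haveI : Group.IsNilpotent H := hH.isNilpotent
  induction S using WellFoundedGT.induction with
  | ind S ih =>
    by_cases hS : S = ⊤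
    · rw [hS]; exact IsSubnormal.top
    · have hlt : S < normalizer (S : Set H) :=
        Group.normalizerCondition_of_isNilpotent S (lt_top_iff_ne_top.2 hS)
      exact IsSubnormal.step S _ le_normalizer (ih _ hlt) normal_in_normalizer

/-- a `p`-subgroup of a minimal simple group is proper. -/
theorem ne_top_of_isPGroup_minSimple (hG : IsMinSimpleOddOrder G) {p : ℕ} [Fact p.Prime]
    {T : Subgroup G} (hT : IsPGroup p T) : T ≠ ⊤ := by
  intro h
  have hsolv : Group.IsSolvable ↥T := by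
    haveI : Group.IsNilpotent ↥T := hT.isNilpotent
    infer_instance
  rw [h] at hsolv
  have hGs : Group.IsSolvable G :=
    solvable_of_surjective (f := (Subgroup.topEquiv : ↥(⊤ : Subgroup G) ≃* G).toMonoidHom)
      (Subgroup.topEquiv : ↥(⊤ : Subgroup G) ≃* G).surjective
  haveI := hG.2.1
  have hc : IsMulCommutative G := by
    have h1 := IsSimpleGroup.comm_iff_isSolvable (G := G)
    refine ⟨⟨fun a b => ?_⟩⟩
    exact h1.mpr hGs a b
  exact hG.2.2.1 hc

/-- STEP 2(a) for `p`-groups: if `M ≥ C_G(A)` contains the normalizer of one maximal `A`-invariant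
`q`-subgroup, then `N_G(T) ≤ M` for every `p`-subgroup `T ≥ A`. -/
theorem normalizer_pgroup_le_of_maxInv (hG : IsMinSimpleOddOrder G) {p : ℕ} [hp : Fact p.Prime]
    (A : Subgroup G) (hAp : IsPGroup p A) (hA : TransitivityHypothesis A)
    (hZ : ¬ RankLE 2 ↥(A ⊓ centralizer (A : Set G))) (M : Subgroup G)
    (hCM : centralizer (A : Set G) ≤ M) (q : ℕ) (hq : q.Prime) (hqp : q ≠ p)
    (Q : Subgroup G) (hQ : Q ∈ maxInvSubgroups ⊤ A {q}) (hNQ : normalizer (Q : Set G) ≤ M)
    (T : Subgroup G) (hTp : IsPGroup p T) (hAT : A ≤ T) : normalizer (T : Set G) ≤ M := by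
  obtain ⟨kA, hkA⟩ := IsPGroup.iff_card.1 hAp
  have hkA0 : kA ≠ 0 := by
    intro h0
    rw [h0, pow_zero] at hkA
    exact hA.1 (Subgroup.card_eq_one.mp hkA)
  have hpA : p ∣ Nat.card A := by rw [hkA]; exact dvd_pow_self p hkA0
  have hqA : ¬ q ∣ Nat.card A := by
    rw [hkA]
    intro hd
    exact hqp ((Nat.prime_dvd_prime_iff_eq hq hp.out).mp (hq.dvd_of_dvd_pow hd))
  apply normalizer_le_of_maxInv hG A hA hZ M hCM q hq hqA Q hQ hNQ T
    (ne_top_of_isPGroup_minSimple hG hTp)
  · intro r hr hrd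
    obtain ⟨kT, hkT⟩ := IsPGroup.iff_card.1 hTp
    rw [hkT] at hrd
    have : r = p := (Nat.prime_dvd_prime_iff_eq hr hp.out).mp (hr.dvd_of_dvd_pow hrd)
    rw [this]; exact hpA
  · exact hAT
  · exact isSubnormal_of_isPGroup_h15 hTp _

/-- entry point: an `SCN_3`-subgroup `A` of a Sylow `p`-subgroup of a minimal simple group of odd
order is an abelian `p`-group satisfying the transitivity hypothesis, with centre of rank `≥ 3`. -/
theorem scn_facts (hG : IsMinSimpleOddOrder G) (p : ℕ) [hp : Fact p.Prime] (P : Sylow p G)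
    (A : Subgroup G) (hA : IsSCN (P : Subgroup G) A) (hA3 : ¬ PRankLE p 2 ↥A) :
    IsMulCommutative A ∧ IsPGroup p A ∧ TransitivityHypothesis A ∧
      ¬ RankLE 2 ↥(A ⊓ centralizer (A : Set G)) ∧ p ∣ Nat.card A := by
  have hAcent : A ≤ centralizer (A : Set G) := by
    have h1 : A ≤ (P : Subgroup G) ⊓ centralizer (A : Set G) := by rw [hA.2.2]
    exact h1.trans inf_le_right
  have hAc : IsMulCommutative A := Subgroup.le_centralizer_iff_isMulCommutative.mp hAcent
  have hAp : IsPGroup p A := P.isPGroup'.to_le hA.1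
  obtain ⟨F, hFA, hF, hFc⟩ := exists_of_not_pRankLE hA3
  have hFp : IsPGroup p F := hAp.to_le hFA
  obtain ⟨kF, hkF⟩ := IsPGroup.iff_card.1 hFp
  have hkF0 : kF ≠ 0 := by
    intro h0
    rw [h0, pow_zero] at hkF
    have : 1 < p ^ 2 := Nat.one_lt_pow (by norm_num) hp.out.one_lt
    omega
  have hpF : p ∣ Nat.card F := by rw [hkF]; exact dvd_pow_self p hkF0
  have hpA : p ∣ Nat.card A := hpF.trans (Subgroup.card_dvd_of_le hFA)
  have hpG : p ∣ Nat.card G := hpA.trans (Subgroup.card_subgroup_dvd_card A)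
  have hnr1 : ¬ PRankLE p 1 ↥A := by
    intro h
    apply hA3
    intro C hC1 hC2
    exact (h C hC1 hC2).trans (Nat.pow_le_pow_right hp.out.pos (by norm_num))
  have hT : TransitivityHypothesis A :=
    Cfsg.Agent.S1396.result hG p hpG A hAp hAc (Or.inr ⟨P, hA, hnr1⟩)
  refine ⟨hAc, hAp, hT, ?_, hpA⟩
  rw [inf_of_le_left hAcent]
  intro h
  exact hA3 (h p hp.out)

end Cfsg.Agent.Helper15.BGU
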